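import Groth.Agent.AlgSpDec.AffineLocal
import Mathlib.CategoryTheory.Sites.SheafOfTypes

/-!
# A sheaf which is affine over a scheme after an etale covering is represented by a scheme affine over it
-/

set_option autoImplicit false
set_option linter.style.haveILetI false
set_option backward.isDefEq.respectTransparency false
set_option backward.isDefEq.respectTransparency.types false

universe u

open CategoryTheory CategoryTheory.Limits AlgebraicGeometry AlgSp Opposite

namespace Groth.Agent.MagnetLib.Rep

variable {S : Scheme.{u}}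

/-- A presheaf of small sets which is a sheaf, as a space. -/
noncomputable def mkSp (F : (Over S)ᵒᵖ ⥤ Type u) (h : Presheaf.IsSheaf (AlgSp.J S) F) : Sp S :=
  ⟨F ⋙ uliftFunctor.{u + 1, u}, (isSheaf_iff_isSheaf_of_type _ _).mpr
    (Presieve.isSheaf_comp_uliftFunctor _ ((isSheaf_iff_isSheaf_of_type _ _).mp h))⟩

/-- Affine morphisms to a scheme are effective for etale coverings among sheaves. -/
theorem exists_representableBy_affine {F G : (Over S)ᵒᵖ ⥤ Type u} (hF : Presheaf.IsSheaf (AlgSp.J S) F)
    (hG : Presheaf.IsSheaf (AlgSp.J S) G) {Zs : Over S} (es : G.RepresentableBy Zs) (φ : F ⟶ G) {Us ZU : Over S}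
    (p : Us ⟶ Zs) [Etale p.left] [Surjective p.left] (jU : ZU ⟶ Us) [IsAffineHom jU.left]
    (ψ : yoneda.obj ZU ⟶ F)
    (sq : IsPullback ψ (yoneda.map jU) φ (yoneda.map p ≫ (Functor.representableByEquiv es).hom)) :
    ∃ (ZN : Over S) (eN : F.RepresentableBy ZN) (j : ZN ⟶ Zs),
      IsAffineHom j.left ∧ ∀ (T : Over S) (z : T ⟶ ZN), es.homEquiv (z ≫ j) = φ.app (op T) (eN.homEquiv z) := by
  haveI : MorphismProperty.DescendsAlong (@IsAffineHom : MorphismProperty Scheme.{u})
      (@Surjective ⊓ @Flat ⊓ @QuasiCompact) := EtFound.fpqc_isAffineHom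
  let U := uliftFunctor.{u + 1, u}
  let W := (Functor.whiskeringRight (Over S)ᵒᵖ (Type u) (Type (u + 1))).obj U
  let φs : mkSp F hF ⟶ mkSp G hG := ObjectProperty.homMk (W.map φ)
  let e : (yon S).obj Zs ≅ mkSp G hG :=
    (fullyFaithfulSheafToPresheaf _ _).preimageIso (W.mapIso (Functor.representableByEquiv es))
  let ψs : (yon S).obj ZU ⟶ mkSp F hF := ObjectProperty.homMk (W.map ψ)
  have hsq : IsPullback ψs ((yon S).map jU) φs ((yon S).map p ≫ e.hom) := by
    refine IsPullback.of_map (sheafToPresheaf _ _) ?_ ?_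
    · apply ObjectProperty.hom_ext
      show W.map ψ ≫ W.map φ = W.map (yoneda.map jU) ≫ W.map (yoneda.map p) ≫ W.map (Functor.representableByEquiv es).hom
      rw [← W.map_comp, ← W.map_comp, ← W.map_comp, sq.w]
    · show IsPullback (W.map ψ) (W.map (yoneda.map jU)) (W.map φ)
        (W.map (yoneda.map p) ≫ W.map (Functor.representableByEquiv es).hom)
      rw [← W.map_comp]
      exact sq.map W
  have he : RepWith @Etale ((yon S).map p ≫ e.hom) :=
    (MorphismProperty.cancel_right_of_respectsIso (RepWith @Etale) _ _).mpr ((repWith_yon_map_iff @Etale p).mpr ‹_›)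
  have hs : RepWith @Surjective ((yon S).map p ≫ e.hom) :=
    (MorphismProperty.cancel_right_of_respectsIso (RepWith @Surjective) _ _).mpr ((repWith_yon_map_iff @Surjective p).mpr ‹_›)
  have hf : RepWith @IsAffineHom φs := AlgSpDec.repWith_of_etale_cover (P := @IsAffineHom) le_rfl he hs hsq
    ((repWith_yon_map_iff @IsAffineHom jU).mpr ‹_›)
  haveI : IsAffineHom (hf.rep.snd e.hom).left := hf.property_snd e.hom
  have hpb := hf.rep.isPullback e.hom
  haveI : IsIso (hf.rep.fst e.hom) := hpb.isIso_fst_of_isIso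
  let k : (yon S).obj (hf.rep.pullback e.hom) ⟶ mkSp F hF := hf.rep.fst e.hom
  haveI : IsIso k.hom := inferInstanceAs (IsIso ((sheafToPresheaf _ _).map k))
  let eN : F.RepresentableBy (hf.rep.pullback e.hom) :=
    { homEquiv := fun {T} => Equiv.ulift.symm.trans (((asIso k.hom).app (op T)).toEquiv.trans Equiv.ulift)
      homEquiv_comp := fun {T T'} t z => by
        have := ConcreteCategory.congr_hom (k.hom.naturality t.op) ⟨z⟩
        exact congrArg ULift.down this }
  refine ⟨hf.rep.pullback e.hom, eN, hf.rep.snd e.hom, inferInstance, fun T z => ?_⟩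
  have h := ConcreteCategory.congr_hom (NatTrans.congr_app (congrArg (fun q => q.hom) hpb.w) (op T)) ⟨z⟩
  exact (congrArg ULift.down h).symm

end Groth.Agent.MagnetLib.Rep
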