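import Groth.Agent.MagnetLib.Rep.AffineDescend
import Groth.Agent.H28.MagnetFixed
import Groth.Agent.H28.FixedDesc
import Groth.Agent.S18294
import Groth.Agent.S18295
import Groth.Agent.S18302

/-!
# Attractors are representable and affine over the attractor of the unit face
-/

set_option autoImplicit false
set_option linter.style.haveILetI false

universe u

open CategoryTheory CategoryTheory.Limits MonoidalCategory CartesianMonoidalCategory MonObj AlgebraicGeometry
open Opposite Magnet

namespace Groth.Agent.MagnetLib.Rep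

/-- Representability of the attractor, affine over the attractor of a face which is a subgroup. -/
theorem exists_affine_attrFace (S : Scheme.{u}) (M : Type) [AddCommGroup M]
    [AddGroup.FG M] (X U : Over S) (aX : AlgGrp.Action (Red.DS S M) X) (aU : AlgGrp.Action (Red.DS S M) U)
    [IsAffineHom U.hom] (f : U ⟶ X) [Etale f.left] [Surjective f.left]
    (hf : MonAct.IsEquivariant (MonAct.ofAction aU) (MonAct.ofAction aX) f)
    (N : AddSubmonoid M) (Z : AddSubgroup M) (hQ : IsFace N Z.toAddSubmonoid)
    (hfZ : MonAct.IsEquivariant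
      ((MonAct.ofAction aU).restrict (AMonS.map S (QuotientAddGroup.mk' Z)))
      ((MonAct.ofAction aX).restrict (AMonS.map S (QuotientAddGroup.mk' Z))) f)
    (hfpr : IsPullback (MonAct.fixedPsh.map f hfZ)
      (MonAct.fixedPshι ((MonAct.ofAction aU).restrict (AMonS.map S (QuotientAddGroup.mk' Z))))
      (MonAct.fixedPshι ((MonAct.ofAction aX).restrict (AMonS.map S (QuotientAddGroup.mk' Z))))
      (yoneda.map f))
    (h : N.FG ∨ (IsSeparated X.hom ∧ LocallyOfFinitePresentation X.hom)) :
    ∃ (ZN Zs : Over S) (eN : (attr (MonAct.ofAction aX) N).RepresentableBy ZN)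
      (es : (attr (MonAct.ofAction aX) Z.toAddSubmonoid).RepresentableBy Zs) (j : ZN ⟶ Zs),
      IsAffineHom j.left ∧ ∀ (T : Over S) (z : T ⟶ ZN),
        es.homEquiv (z ≫ j) = (attrFace (MonAct.ofAction aX) hQ).app (op T) (eN.homEquiv z) := by
  obtain ⟨WQ, iQ, eQ, hclQ, hiQ⟩ := S18295.result S M Z.toAddSubmonoid U (MonAct.ofAction aU)
  obtain ⟨WN, iN, eUN, hclN, hiN⟩ := S18295.result S M N U (MonAct.ofAction aU)
  obtain ⟨eU, heU⟩ := H28.MagnetFixed.exists_iso Z (MonAct.ofAction aU)
  obtain ⟨eX, heX⟩ := H28.MagnetFixed.exists_iso Z (MonAct.ofAction aX)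
  let eU' := eQ.ofIso eU
  have hU' : ∀ (T : Over S) (w : T ⟶ WQ),
      (MonAct.fixedPshι _).app (op T) (eU'.homEquiv w) = w ≫ iQ := fun T w => by
    rw [← hiQ T w]
    exact ConcreteCategory.congr_hom (NatTrans.congr_app heU (op T)) (eQ.homEquiv w)
  obtain ⟨Zs, iZ, eF, hclZ, hiZ⟩ := H28.FixedDesc.exists_representableBy _ _ f hfZ hfpr ⟨WQ, iQ, eU', hclQ, hU'⟩
  let es := eF.ofIso eX.symm
  -- the map of fixed loci
  let p : WQ ⟶ Zs := eF.homEquiv.symm ((MonAct.fixedPsh.map f hfZ).app (op WQ) (eU'.homEquiv (𝟙 WQ)))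
  have hp : p ≫ iZ = iQ ≫ f := by
    rw [← hiZ, Equiv.apply_symm_apply]
    show ((eU'.homEquiv (𝟙 WQ)).1) ≫ f = iQ ≫ f
    exact congrArg (· ≫ f) ((hU' WQ (𝟙 WQ)).trans (Category.id_comp iQ))
  have hpF : ∀ (T : Over S) (z : T ⟶ WQ),
      (MonAct.fixedPsh.map f hfZ).app (op T) (eU'.homEquiv z) = eF.homEquiv (z ≫ p) := fun T z =>
    Subtype.ext (by
      show (MonAct.fixedPshι _).app (op T) (eU'.homEquiv z) ≫ f =
        (MonAct.fixedPshι _).app (op T) (eF.homEquiv (z ≫ p))
      rw [hU', hiZ, Category.assoc, Category.assoc, hp])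
  have hsq : IsPullback p iQ iZ f := by
    refine IsPullback.of_map yoneda hp ?_
    refine hfpr.of_iso (Functor.representableByEquiv eU').symm (Functor.representableByEquiv eF).symm (Iso.refl _)
      (Iso.refl _) ?_ ?_ ?_ ?_
    · rw [← cancel_epi (Functor.representableByEquiv eU').hom, ← cancel_mono (Functor.representableByEquiv eF).hom]
      simp only [Category.assoc, Iso.symm_hom, Iso.inv_hom_id, Iso.hom_inv_id_assoc, Category.comp_id]
      ext T z
      simp
      exact hpF T.unop z
    · rw [Iso.refl_hom, Category.comp_id, ← cancel_epi (Functor.representableByEquiv eU').hom]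
      ext T z
      simp
      exact hU' T.unop z
    · rw [Iso.refl_hom, Category.comp_id, ← cancel_epi (Functor.representableByEquiv eF).hom]
      ext T z
      simp
      exact hiZ T.unop z
    · simp
  have hsq' : IsPullback p.left iQ.left iZ.left f.left := hsq.map (Over.forget S)
  haveI : Etale p.left := MorphismProperty.of_isPullback hsq'.flip ‹Etale f.left›
  haveI : Surjective p.left := MorphismProperty.of_isPullback hsq'.flip ‹Surjective f.left›
  -- the face projection of the atlas
  let jU : WN ⟶ WQ := eQ.homEquiv.symm ((attrFace (MonAct.ofAction aU) hQ).app (op WN) (eUN.homEquiv (𝟙 WN)))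
  haveI : IsClosedImmersion iQ.left := hclQ
  haveI : IsClosedImmersion iN.left := hclN
  haveI : IsAffineHom WQ.hom := by rw [← Over.w iQ]; infer_instance
  haveI : IsAffineHom WN.hom := by rw [← Over.w iN]; infer_instance
  haveI : IsAffineHom (jU.left ≫ WQ.hom) := by rw [Over.w jU]; infer_instance
  haveI : IsAffineHom jU.left := IsAffineHom.of_comp jU.left WQ.hom
  have hjU : ∀ (T : Over S) (z : T ⟶ WN),
      eQ.homEquiv (z ≫ jU) = (attrFace (MonAct.ofAction aU) hQ).app (op T) (eUN.homEquiv z) := fun T z => by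
    rw [eQ.homEquiv_comp, Equiv.apply_symm_apply]
    refine (ConcreteCategory.congr_hom ((attrFace (MonAct.ofAction aU) hQ).naturality z.op) _).symm.trans ?_
    exact congrArg ((attrFace (MonAct.ofAction aU) hQ).app (op T))
      ((eUN.homEquiv_comp z (𝟙 WN)).symm.trans (congrArg _ (Category.comp_id z)))
  have hpQ : ∀ (T : Over S) (z : T ⟶ WQ),
      (MonAct.eqvHom.postcomp (subAct S M Z.toAddSubmonoid) f hf).app (op T) (eQ.homEquiv z) =
        es.homEquiv (z ≫ p) := fun T z => by
    apply ((eX.app (op T)).toEquiv).injective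
    show eX.hom.app (op T) _ = eX.hom.app (op T) (eX.inv.app (op T) (eF.homEquiv (z ≫ p)))
    rw [← hpF]
    erw [Iso.inv_hom_id_app_apply]
    refine Subtype.ext ?_
    have h3 : ∀ y, (eX.hom.app (op T) y).1 = (attrToX (MonAct.ofAction aX) Z.toAddSubmonoid).app (op T) y := fun y => by
      rw [← heX]; rfl
    refine (h3 _).trans ?_
    show _ = (eU.hom.app (op T) (eQ.homEquiv z)).1 ≫ f
    have h2 : (eU.hom.app (op T) (eQ.homEquiv z)).1 = (attrToX (MonAct.ofAction aU) Z.toAddSubmonoid).app (op T)
        (eQ.homEquiv z) := by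
      rw [← heU]; rfl
    rw [h2]
    simp [attrToX]
  let ψ : yoneda.obj WN ⟶ attr (MonAct.ofAction aX) N :=
    (Functor.representableByEquiv eUN).hom ≫ MonAct.eqvHom.postcomp (subAct S M N) f hf
  have sq : IsPullback ψ (yoneda.map jU) (attrFace (MonAct.ofAction aX) hQ)
      (yoneda.map p ≫ (Functor.representableByEquiv es).hom) := by
    refine (S18302.result S M X U aX aU f hf N Z.toAddSubmonoid hQ h).of_iso
      (Functor.representableByEquiv eUN).symm (Iso.refl _) (Functor.representableByEquiv eQ).symm (Iso.refl _)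
      ?_ ?_ ?_ ?_
    · simp [ψ]
    · rw [← cancel_epi (Functor.representableByEquiv eUN).hom, ← cancel_mono (Functor.representableByEquiv eQ).hom]
      ext T z
      simp
      exact (hjU T.unop z).symm
    · simp
    · rw [← cancel_epi (Functor.representableByEquiv eQ).hom]
      ext T z
      simp
      exact hpQ T.unop z
  obtain ⟨ZN, eN, j, hj, hc⟩ := exists_representableBy_affine
    (S18294.result S (AMonS S M) (AMonS S N) X (subAct S M N) (MonAct.ofAction aX))
    (S18294.result S (AMonS S M) (AMonS S Z.toAddSubmonoid) X (subAct S M Z.toAddSubmonoid) (MonAct.ofAction aX))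
    es (attrFace (MonAct.ofAction aX) hQ) p jU ψ sq
  exact ⟨ZN, Zs, eN, es, j, hj, hc⟩

end Groth.Agent.MagnetLib.Rep
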